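import Mathlib
import Cfsg.Agent.Lib.LinearGroups.Basic

/-!
Perfect central extensions of `PSL(3,4)` by elementary abelian 2-groups have kernel of order
at most 4.  The root groups have canonical lifts (commutators with a lift of a torus element of
order 3), the only possible defect is a torus-invariant biadditive map into the kernel, and the
transfer into a Sylow 2-subgroup shows that the kernel is generated by its values.
-/

set_option autoImplicit false

namespace Cfsg.Agent.CoverL34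

open scoped commutatorElement

/-- If the preimage of an elementary abelian subgroup under a central extension with kernel of
exponent two admits a conjugation transitive on nonidentity elements, and that subgroup has rank
at least 3, then the preimage is elementary abelian. -/
theorem preimage_elementary {E G A : Type*} [Group E] [Group G] [AddCommGroup A]
    (π : E →* G) (hπ : Function.Surjective π) (hc : π.ker ≤ Subgroup.center E)
    (h2 : ∀ v ∈ π.ker, v * v = 1) (hA2 : ∀ v : A, v + v = 0)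
    (hA3 : ∀ v w : A, ∃ u : A, u ≠ 0 ∧ u ≠ v ∧ u ≠ w ∧ u ≠ v + w)
    (f : A → G) (hf : ∀ v w, f (v + w) = f v * f w) (e : A) (he : e ≠ 0)
    (htr : ∀ v : A, v ≠ 0 → ∃ g : G, g * f e = f v * g) :
    (∀ y : E, ∀ v, π y = f v → y * y = 1) ∧
      ∀ y z : E, ∀ v w, π y = f v → π z = f w → y * z = z * y := by
  have hf0 : f 0 = 1 := mul_left_cancel (a := f 0) (by rw [← hf, add_zero, mul_one])
  have hcen : ∀ k : E, π k = 1 → ∀ x : E, x * k = k * x := fun k hk x =>
    Subgroup.mem_center_iff.1 (hc ((MonoidHom.mem_ker).2 hk)) x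
  obtain ⟨y0, hy0⟩ := hπ (f e)
  have hs : π (y0 * y0) = 1 := by rw [map_mul, hy0, ← hf, hA2, hf0]
  have hss : (y0 * y0) * (y0 * y0) = 1 := h2 _ (MonoidHom.mem_ker.2 hs)
  set s := y0 * y0 with hsdef
  have hsq : ∀ y : E, ∀ v, π y = f v → v ≠ 0 → y * y = s := by
    intro y v hy hv
    obtain ⟨g, hg⟩ := htr v hv
    obtain ⟨g', rfl⟩ := hπ g
    have hk : π ((g' * y0 * g'⁻¹)⁻¹ * y) = 1 := by
      simp only [map_mul, map_inv, hy0, hy, hg]
      group
    obtain ⟨k, hkdef⟩ : ∃ k, (g' * y0 * g'⁻¹)⁻¹ * y = k := ⟨_, rfl⟩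
    rw [hkdef] at hk
    have hy' : y = g' * y0 * g'⁻¹ * k := by rw [← hkdef]; group
    have hkk : k * k = 1 := h2 _ (MonoidHom.mem_ker.2 hk)
    calc y * y = g' * y0 * g'⁻¹ * (k * (g' * y0 * g'⁻¹)) * k := by rw [hy']; group
      _ = g' * y0 * g'⁻¹ * ((g' * y0 * g'⁻¹) * k) * k := by rw [← hcen k hk (g' * y0 * g'⁻¹)]
      _ = (g' * y0 * g'⁻¹) * (g' * y0 * g'⁻¹) * (k * k) := by group
      _ = g' * s * g'⁻¹ := by rw [hkk, hsdef]; group
      _ = s := by rw [hcen s hs g']; group
  have hcomm : ∀ y z : E, ∀ v w, π y = f v → π z = f w → v ≠ 0 → w ≠ 0 → v ≠ w →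
      ⁅y, z⁆ = s := by
    intro y z v w hy hz hv hw hvw
    have hne : v + w ≠ 0 := by
      intro h
      apply hvw
      have := hA2 w
      exact add_right_cancel (h.trans this.symm)
    have h3 : (y * z) * (y * z) = s := hsq _ (v + w) (by rw [map_mul, hy, hz, hf]) hne
    have hyi : y⁻¹ = y * s := inv_eq_of_mul_eq_one_right (by rw [← mul_assoc, hsq y v hy hv, hss])
    have hzi : z⁻¹ = z * s := inv_eq_of_mul_eq_one_right (by rw [← mul_assoc, hsq z w hz hw, hss])
    calc ⁅y, z⁆ = y * z * (y * s) * (z * s) := by rw [commutatorElement_def, hyi, hzi]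
      _ = y * z * y * (s * z) * s := by group
      _ = y * z * y * (z * s) * s := by rw [hcen s hs z]
      _ = (y * z) * (y * z) * (s * s) := by group
      _ = s := by rw [h3, hss, mul_one]
  have hs1 : s = 1 := by
    obtain ⟨w, hw0, hwe, -, -⟩ := hA3 e e
    obtain ⟨u, hu0, hue, huw, huew⟩ := hA3 e w
    obtain ⟨z, hz⟩ := hπ (f w)
    obtain ⟨x, hx⟩ := hπ (f u)
    have hwu0 : w + u ≠ 0 := by
      intro h
      exact huw.symm (add_right_cancel (h.trans (hA2 u).symm))
    have hwue : e ≠ w + u := by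
      intro h
      apply huew
      rw [h, add_comm w u, add_assoc, hA2, add_zero]
    have h1 := hcomm y0 (z * x) e (w + u) hy0 (by rw [map_mul, hz, hx, hf]) he hwu0 hwue
    have h2' := hcomm y0 z e w hy0 hz he hw0 (Ne.symm hwe)
    have h3' := hcomm y0 x e u hy0 hx he hu0 (Ne.symm hue)
    have h4 : ⁅y0, z * x⁆ = ⁅y0, z⁆ * (z * ⁅y0, x⁆ * z⁻¹) := by
      simp only [commutatorElement_def]; group
    rw [h1, h2', h3', hcen s hs z, mul_inv_cancel_right, hss] at h4
    exact h4
  have hall : ∀ y : E, ∀ v, π y = f v → y * y = 1 := by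
    intro y v hy
    by_cases hv : v = 0
    · exact h2 _ (MonoidHom.mem_ker.2 (by rw [hy, hv, hf0]))
    · rw [hsq y v hy hv, hs1]
  refine ⟨hall, fun y z v w hy hz => ?_⟩
  have h3 := hall (y * z) (v + w) (by rw [map_mul, hy, hz, hf])
  calc y * z = (y * z)⁻¹ := eq_inv_of_mul_eq_one_left h3
    _ = z⁻¹ * y⁻¹ := mul_inv_rev _ _
    _ = z * y := by
      rw [inv_eq_of_mul_eq_one_right (hall z w hz), inv_eq_of_mul_eq_one_right (hall y v hy)]

variable (K : Type) [Field K]

local notation "SL₃" => Matrix.SpecialLinearGroup (Fin 3) K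
local notation "L₃" => Matrix.ProjectiveSpecialLinearGroup (Fin 3) K

/-- An upper unitriangular matrix. -/
def uM (a b c : K) : SL₃ :=
  ⟨!![1, a, c; 0, 1, b; 0, 0, 1], by simp [Matrix.det_fin_three]⟩

/-- Its image in the projective group. -/
def uP (a b c : K) : L₃ := QuotientGroup.mk (uM K a b c)

theorem uM_mul (a b c a' b' c' : K) :
    uM K a b c * uM K a' b' c' = uM K (a + a') (b + b') (c + c' + a * b') := by
  apply Subtype.ext
  show (!![1, a, c; 0, 1, b; 0, 0, 1] : Matrix (Fin 3) (Fin 3) K) *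
      !![1, a', c'; 0, 1, b'; 0, 0, 1] =
      !![1, a + a', c + c' + a * b'; 0, 1, b + b'; 0, 0, 1]
  ext i j
  fin_cases i <;> fin_cases j <;> simp [Matrix.mul_apply, Fin.sum_univ_three] <;> ring

theorem uP_mul (a b c a' b' c' : K) :
    uP K a b c * uP K a' b' c' = uP K (a + a') (b + b') (c + c' + a * b') := by
  rw [uP, uP, ← QuotientGroup.mk_mul, uM_mul]; rfl

theorem uM_zero : uM K 0 0 0 = 1 := by
  apply Subtype.ext
  ext i j
  fin_cases i <;> fin_cases j <;> simp [uM]

theorem uP_zero : uP K 0 0 0 = 1 := by rw [uP, uM_zero]; rfl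

theorem uP_injective {a b c a' b' c' : K} (h : uP K a b c = uP K a' b' c') :
    a = a' ∧ b = b' ∧ c = c' := by
  rw [uP, uP, QuotientGroup.eq] at h
  obtain ⟨r, -, hr⟩ := Matrix.SpecialLinearGroup.mem_center_iff.1 h
  have h1 : uM K a' b' c' = uM K a b c * ((uM K a b c)⁻¹ * uM K a' b' c') := by group
  have h2 : (!![1, a', c'; 0, 1, b'; 0, 0, 1] : Matrix (Fin 3) (Fin 3) K) =
      !![1, a, c; 0, 1, b; 0, 0, 1] * Matrix.scalar (Fin 3) r := by
    rw [hr]
    exact congrArg Subtype.val h1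
  have e00 := congrFun (congrFun h2 0) 0
  have e01 := congrFun (congrFun h2 0) 1
  have e12 := congrFun (congrFun h2 1) 2
  have e02 := congrFun (congrFun h2 0) 2
  simp [Matrix.mul_apply, Fin.sum_univ_three, Matrix.scalar_apply] at e00 e01 e12 e02
  subst e00
  simp_all

/-- The torus element. -/
def torus (w : K) (h : w ^ 3 = 1) : SL₃ :=
  ⟨!![w, 0, 0; 0, 1, 0; 0, 0, w ^ 2], by
    simp [Matrix.det_fin_three]
    linear_combination h⟩

/-- A matrix of determinant one in the projective group. -/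
def mS (M : Matrix (Fin 3) (Fin 3) K) (h : M.det = 1) : SL₃ := ⟨M, h⟩

/-- The same in the projective group. -/
def mP (M : Matrix (Fin 3) (Fin 3) K) (h : M.det = 1) : L₃ := QuotientGroup.mk (mS K M h)

theorem mP_mul_uP {M : Matrix (Fin 3) (Fin 3) K} {h : M.det = 1} {a b c a' b' c' : K}
    (e : M * !![1, a, c; 0, 1, b; 0, 0, 1] = !![1, a', c'; 0, 1, b'; 0, 0, 1] * M) :
    mP K M h * uP K a b c = uP K a' b' c' * mP K M h := by
  rw [mP, uP, uP, ← QuotientGroup.mk_mul, ← QuotientGroup.mk_mul]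
  have : mS K M h * uM K a b c = uM K a' b' c' * mS K M h := Subtype.ext e
  rw [this]

theorem torus_conj (w : K) (h : w ^ 3 = 1) (a b c : K) :
    (QuotientGroup.mk (torus K w h) : L₃) * uP K a b c =
      uP K (w * a) (w * b) (w ^ 2 * c) * QuotientGroup.mk (torus K w h) := by
  refine mP_mul_uP K (M := !![w, 0, 0; 0, 1, 0; 0, 0, w ^ 2]) ?_
  ext i j
  fin_cases i <;> fin_cases j <;> simp [Matrix.mul_apply, Fin.sum_univ_three]
  · linear_combination (-c * w) * h
  · linear_combination (-b) * h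

theorem row_trans (a c : K) (h : (a, c) ≠ (0, 0)) :
    ∃ g : L₃, g * uP K 1 0 0 = uP K a 0 c * g := by
  by_cases ha : a = 0
  · have hc : c ≠ 0 := by rintro rfl; exact h (by rw [ha])
    refine ⟨mP K !![1, 0, 0; 0, 0, -c; 0, c⁻¹, 0] (by simp [Matrix.det_fin_three, hc]), mP_mul_uP K ?_⟩
    ext i j
    fin_cases i <;> fin_cases j <;> simp [uM, ha, hc, Matrix.SpecialLinearGroup.coe_mul, Matrix.mul_apply, Fin.sum_univ_three]
  · refine ⟨mP K !![1, 0, 0; 0, a⁻¹, -c; 0, 0, a] (by simp [Matrix.det_fin_three, ha]), mP_mul_uP K ?_⟩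
    ext i j
    fin_cases i <;> fin_cases j <;> simp [uM, ha, Matrix.SpecialLinearGroup.coe_mul, Matrix.mul_apply, Fin.sum_univ_three] <;> ring

theorem col_trans (b c : K) (h : (b, c) ≠ (0, 0)) :
    ∃ g : L₃, g * uP K 0 1 0 = uP K 0 b c * g := by
  by_cases hb : b = 0
  · have hc : c ≠ 0 := by rintro rfl; exact h (by rw [hb])
    refine ⟨mP K !![0, c, 0; -c⁻¹, 0, 0; 0, 0, 1] (by simp [Matrix.det_fin_three, hc]), mP_mul_uP K ?_⟩
    ext i j
    fin_cases i <;> fin_cases j <;> simp [uM, hb, hc, Matrix.SpecialLinearGroup.coe_mul, Matrix.mul_apply, Fin.sum_univ_three]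
  · refine ⟨mP K !![b⁻¹, c, 0; 0, b, 0; 0, 0, 1] (by simp [Matrix.det_fin_three, hb]), mP_mul_uP K ?_⟩
    ext i j
    fin_cases i <;> fin_cases j <;> simp [uM, hb, Matrix.SpecialLinearGroup.coe_mul, Matrix.mul_apply, Fin.sum_univ_three]

theorem natCard_L34 [Fintype K] (hK : Fintype.card K = 4) : Nat.card L₃ = 20160 := by
  have h1 := LinGrp.natCard_SL_mul (F := K) 3 (by norm_num)
  have h2 := LinGrp.natCard_PSL_mul (n := Fin 3) (F := K)
  rw [hK, Fin.prod_univ_three] at h1
  rw [Nat.card_eq_fintype_card (α := K), hK, Fintype.card_fin] at h2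
  norm_num at h1 h2
  omega

end Cfsg.Agent.CoverL34
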