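import Mathlib
import Cfsg.Agent.Lib.CoverL34.Basic

/-!
A perfect central extension of `PSL(3,4)` with kernel of exponent 2 has kernel of order at most 4.
-/

set_option autoImplicit false

namespace Cfsg.Agent.CoverL34

open scoped commutatorElement

theorem field_facts {K : Type} [Field K] [Fintype K] (hK : Fintype.card K = 4) :
    (∀ a : K, a + a = 0) ∧ ∃ w : K, w ^ 3 = 1 ∧ w * w = w + 1 ∧
      ∀ a : K, a = 0 ∨ a = 1 ∨ a = w ∨ a = w * w := by
  classical
  have h2 : (2 : K) = 0 := by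
    have h := FiniteField.cast_card_eq_zero K
    rw [hK] at h
    have : (2 : K) * 2 = 0 := by rw [← h]; norm_num
    exact mul_self_eq_zero.1 this
  have hadd : ∀ a : K, a + a = 0 := fun a => by linear_combination a * h2
  obtain ⟨w, hw⟩ : ∃ w : K, w ∉ ({0, 1} : Finset K) := by
    by_contra hc
    simp only [not_exists, not_not] at hc
    have := Finset.card_le_card (s := Finset.univ) (t := ({0, 1} : Finset K)) fun x _ => hc x
    simp [Finset.card_univ, hK] at this
  simp at hw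
  obtain ⟨hw0, hw1⟩ := hw
  have h3 : w ^ 3 = 1 := by
    have := FiniteField.pow_card_sub_one_eq_one w hw0
    rwa [hK] at this
  have hq : w * w = w + 1 := by
    have : (w - 1) * (w * w + w + 1) = 0 := by linear_combination h3
    rcases mul_eq_zero.1 this with h | h
    · exact absurd (sub_eq_zero.1 h) hw1
    · linear_combination h - (w + 1) * h2
  refine ⟨hadd, w, h3, hq, fun a => ?_⟩
  by_contra hc
  simp only [not_or] at hc
  have hne : w * w ≠ w := fun h => by
    rw [hq] at h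
    simp at h
  have hne1 : w * w ≠ 1 := fun h => by
    rw [hq] at h
    simp at h
    exact hw0 h
  have hcard : ({0, 1, w, w * w, a} : Finset K).card = 5 := by
    rw [Finset.card_insert_of_notMem, Finset.card_insert_of_notMem, Finset.card_insert_of_notMem,
      Finset.card_insert_of_notMem, Finset.card_singleton] <;>
      simp [hne.symm, hne1.symm, Ne.symm hw0, Ne.symm hw1, hw0, Ne.symm hc.1,
        Ne.symm hc.2.1, Ne.symm hc.2.2.1, Ne.symm hc.2.2.2]
  have := Finset.card_le_univ ({0, 1, w, w * w, a} : Finset K)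
  omega

theorem pair_avoid {K : Type} [Field K] [Fintype K] (hK : Fintype.card K = 4) :
    ∀ v w : K × K, ∃ u : K × K, u ≠ 0 ∧ u ≠ v ∧ u ≠ w ∧ u ≠ v + w := by
  classical
  intro v w
  by_contra hc
  simp only [not_exists, not_and, not_not] at hc
  have := Finset.card_le_card (s := Finset.univ) (t := ({0, v, w, v + w} : Finset (K × K)))
    (fun u _ => by
      by_cases h1 : u = 0
      · simp [h1]
      by_cases h2 : u = v
      · simp [h2]
      by_cases h3 : u = w
      · simp [h3]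
      simp [hc u h1 h2 h3])
  have h4 := Finset.card_le_four (a := (0 : K × K)) (b := v) (c := w) (d := v + w)
  simp [Finset.card_univ, Fintype.card_prod, hK] at this
  omega

variable {K : Type} [Field K] [Fintype K]

local notation "L₃" => Matrix.ProjectiveSpecialLinearGroup (Fin 3) K

/-- **Kernel bound.** -/
theorem card_ker_le {E : Type*} [Group E] [Finite E] (hK : Fintype.card K = 4)
    (π : E →* L₃) (hπ : Function.Surjective π) (hc : π.ker ≤ Subgroup.center E)
    (h2 : ∀ v ∈ π.ker, v * v = 1) (hperf : commutator E = ⊤) :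
    Nat.card π.ker ≤ 4 := by
  classical
  obtain ⟨hadd, w, hw3, hw2, hKcases⟩ := field_facts hK
  have hcen : ∀ k : E, π k = 1 → ∀ x : E, x * k = k * x := fun k hk x =>
    Subgroup.mem_center_iff.1 (hc ((MonoidHom.mem_ker).2 hk)) x
  have hpadd : ∀ v : K × K, v + v = 0 := fun v => Prod.ext (hadd _) (hadd _)
  -- the two elementary abelian root subgroups
  have hA := preimage_elementary π hπ hc h2 hpadd (pair_avoid hK)
    (fun v : K × K => uP K v.1 0 v.2)
    (fun v u => by simp [uP_mul]) (1, 0) (by simp)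
    (fun v hv => row_trans K v.1 v.2 hv)
  have hB := preimage_elementary π hπ hc h2 hpadd (pair_avoid hK)
    (fun v : K × K => uP K 0 v.1 v.2)
    (fun v u => by simp [uP_mul]) (1, 0) (by simp)
    (fun v hv => col_trans K v.1 v.2 hv)
  obtain ⟨h, hh⟩ := hπ (QuotientGroup.mk (torus K w hw3))
  have hphc : ∀ y : E, ∀ a b c, π y = uP K a b c →
      π (h * y * h⁻¹) = uP K (w * a) (w * b) (w ^ 2 * c) := by
    intro y a b c hy
    rw [map_mul, map_mul, map_inv, hh, hy, torus_conj, mul_inv_cancel_right]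
  have hinv : ∀ x, x * x = (1 : E) → x⁻¹ = x := fun x hx => inv_eq_of_mul_eq_one_right hx
  -- canonical lifts
  let sec : L₃ → E := Function.surjInv hπ
  have hsec : ∀ g, π (sec g) = g := Function.surjInv_eq hπ
  let l : K → K → K → E := fun a b c => ⁅h, sec (uP K (w * a) (w * b) (w * w * c))⁆
  have indep : ∀ y : E, ∀ g, π y = g → ⁅h, y⁆ = ⁅h, sec g⁆ := by
    intro y g hy
    have hk : π ((sec g)⁻¹ * y) = 1 := by rw [map_mul, map_inv, hsec, hy, inv_mul_cancel]
    obtain ⟨k, hkdef⟩ : ∃ k, (sec g)⁻¹ * y = k := ⟨_, rfl⟩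
    rw [hkdef] at hk
    have hy' : y = sec g * k := by rw [← hkdef]; group
    rw [hy', commutatorElement_def, commutatorElement_def, mul_inv_rev]
    calc h * (sec g * k) * h⁻¹ * (k⁻¹ * (sec g)⁻¹)
        = h * sec g * (k * h⁻¹) * k⁻¹ * (sec g)⁻¹ := by group
      _ = h * sec g * (h⁻¹ * k) * k⁻¹ * (sec g)⁻¹ := by rw [hcen k hk]
      _ = h * sec g * h⁻¹ * (sec g)⁻¹ := by group
  have lproj : ∀ a b c, (a = 0 ∨ b = 0) → π (l a b c) = uP K a b c := by
    intro a b c hab
    have e : ∀ y : E, ⁅h, y⁆ = h * y * h⁻¹ * y⁻¹ := fun y => commutatorElement_def h y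
    simp only [l, e]
    rw [map_mul, map_inv, hphc _ _ _ _ (hsec _), hsec]
    have hi : (uP K (w * a) (w * b) (w * w * c))⁻¹ = uP K (w * a) (w * b) (w * w * c) := by
      refine inv_eq_of_mul_eq_one_right ?_
      rw [uP_mul, hadd, hadd, hadd]
      rcases hab with rfl | rfl <;> simp [uP_zero]
    rw [hi, uP_mul]
    have e1 : w * (w * a) + w * a = a := by linear_combination a * hw2 + hadd (w * a)
    have e2 : w * (w * b) + w * b = b := by linear_combination b * hw2 + hadd (w * b)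
    have e3 : w ^ 2 * (w * w * c) + w * w * c + w * (w * a) * (w * b) = c := by
      rcases hab with rfl | rfl <;>
        linear_combination (w * c) * hw3 + c * hw2 + hadd (w * c)
    rw [e1, e2, e3]
  -- elements over the root subgroups
  have rowc : ∀ y z : E, ∀ a c a' c', π y = uP K a 0 c → π z = uP K a' 0 c' → y * z = z * y :=
    fun y z a c a' c' hy hz => hA.2 y z (a, c) (a', c') hy hz
  have rows : ∀ y : E, ∀ a c, π y = uP K a 0 c → y * y = 1 := fun y a c hy => hA.1 y (a, c) hy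
  have colc : ∀ y z : E, ∀ b c b' c', π y = uP K 0 b c → π z = uP K 0 b' c' → y * z = z * y :=
    fun y z b c b' c' hy hz => hB.2 y z (b, c) (b', c') hy hz
  have cols : ∀ y : E, ∀ b c, π y = uP K 0 b c → y * y = 1 := fun y b c hy => hB.1 y (b, c) hy
  have hcp : ∀ y z : E, y * (⁅h, z⁆) = ⁅h, z⁆ * y →
      ⁅h, y * z⁆ = ⁅h, y⁆ * ⁅h, z⁆ := by
    intro y z hyz
    have : ⁅h, y * z⁆ = ⁅h, y⁆ * (y * ⁅h, z⁆ * y⁻¹) := by
      simp only [commutatorElement_def]; group
    rw [this, hyz, mul_inv_cancel_right]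
  have ladd1 : ∀ a c a' c', l (a + a') 0 (c + c') = l a 0 c * l a' 0 c' := by
    intro a c a' c'
    have hp : π (sec (uP K (w * a) (w * 0) (w * w * c)) *
        sec (uP K (w * a') (w * 0) (w * w * c'))) =
        uP K (w * (a + a')) (w * 0) (w * w * (c + c')) := by
      rw [map_mul, hsec, hsec, uP_mul]
      congr 1 <;> ring
    simp only [l]
    rw [← indep _ _ hp, hcp]
    exact rowc _ _ (w * a) (w * w * c) a' c' (by rw [hsec, mul_zero]) (lproj a' 0 c' (Or.inr rfl))
  have ladd2 : ∀ b c b' c', l 0 (b + b') (c + c') = l 0 b c * l 0 b' c' := by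
    intro b c b' c'
    have hp : π (sec (uP K (w * 0) (w * b) (w * w * c)) *
        sec (uP K (w * 0) (w * b') (w * w * c'))) =
        uP K (w * 0) (w * (b + b')) (w * w * (c + c')) := by
      rw [map_mul, hsec, hsec, uP_mul]
      congr 1 <;> ring
    simp only [l]
    rw [← indep _ _ hp, hcp]
    exact colc _ _ (w * b) (w * w * c) b' c' (by rw [hsec, mul_zero]) (lproj 0 b' c' (Or.inl rfl))
  have lzero : l 0 0 0 = 1 := by
    have := ladd1 0 0 0 0
    rw [add_zero] at this
    exact mul_left_cancel (a := l 0 0 0) (by rw [mul_one, ← this])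
  have lh : ∀ a b c, (a = 0 ∨ b = 0) → h * l a b c * h⁻¹ = l (w * a) (w * b) (w ^ 2 * c) := by
    intro a b c _
    have e : ∀ y : E, h * ⁅h, y⁆ * h⁻¹ = ⁅h, h * y * h⁻¹⁆ := fun y => by
      simp only [commutatorElement_def]; group
    simp only [l]
    rw [e]
    refine indep _ _ ?_
    rw [hphc _ _ _ _ (hsec _)]
    congr 1
    ring
  -- the defect
  let f : K → K → E := fun a b => ⁅l a 0 0, l 0 b 0⁆ * l 0 0 (a * b)
  have hpc : ∀ a b, π ⁅l a 0 0, l 0 b 0⁆ = uP K 0 0 (a * b) := by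
    intro a b
    have e : ∀ x y : E, ⁅x, y⁆ = x * y * x⁻¹ * y⁻¹ := fun x y => commutatorElement_def x y
    rw [e, hinv _ (rows _ a 0 (lproj a 0 0 (Or.inr rfl))),
      hinv _ (cols _ b 0 (lproj 0 b 0 (Or.inl rfl))), map_mul, map_mul, map_mul,
      lproj a 0 0 (Or.inr rfl), lproj 0 b 0 (Or.inl rfl), uP_mul, uP_mul, uP_mul]
    simp [hadd]
  have fker : ∀ a b, π (f a b) = 1 := by
    intro a b
    simp only [f]
    rw [map_mul, hpc, lproj 0 0 _ (Or.inl rfl), uP_mul, ← uP_zero K]
    simp [hadd]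
  have fsq : ∀ a b, f a b * f a b = 1 := fun a b => h2 _ (MonoidHom.mem_ker.2 (fker a b))
  have fdef : ∀ a b, ⁅l a 0 0, l 0 b 0⁆ = f a b * l 0 0 (a * b) := by
    intro a b
    simp only [f]
    rw [mul_assoc, rows _ 0 (a * b) (lproj 0 0 _ (Or.inl rfl)), mul_one]
  have lz : ∀ c c', l 0 0 (c + c') = l 0 0 c * l 0 0 c' := by
    intro c c'
    have := ladd1 0 c 0 c'
    rwa [add_zero] at this
  have fadd1 : ∀ a a' b, f (a + a') b = f a b * f a' b := by
    intro a a' b
    have hla : l (a + a') 0 0 = l a 0 0 * l a' 0 0 := by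
      have := ladd1 a 0 a' 0
      rwa [add_zero] at this
    have e : ∀ y y' z : E, ⁅y * y', z⁆ = y * ⁅y', z⁆ * y⁻¹ * ⁅y, z⁆ := fun y y' z => by
      simp only [commutatorElement_def]; group
    show ⁅l (a + a') 0 0, l 0 b 0⁆ * l 0 0 ((a + a') * b) = f a b * f a' b
    rw [hla, e, rowc (l a 0 0) ⁅l a' 0 0, l 0 b 0⁆ a 0 0 (a' * b) (lproj a 0 0 (Or.inr rfl))
      (hpc a' b), mul_inv_cancel_right, fdef, fdef, add_mul, lz]
    have hs := rows _ 0 (a * b) (lproj 0 0 (a * b) (Or.inl rfl))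
    have hs' := rows _ 0 (a' * b) (lproj 0 0 (a' * b) (Or.inl rfl))
    calc f a' b * l 0 0 (a' * b) * (f a b * l 0 0 (a * b)) * (l 0 0 (a * b) * l 0 0 (a' * b))
        = f a' b * (l 0 0 (a' * b) * f a b) * (l 0 0 (a * b) * l 0 0 (a * b)) *
            l 0 0 (a' * b) := by group
      _ = f a' b * (f a b * l 0 0 (a' * b)) * l 0 0 (a' * b) := by
          rw [hs, mul_one, hcen _ (fker a b)]
      _ = f a' b * f a b * (l 0 0 (a' * b) * l 0 0 (a' * b)) := by group
      _ = f a b * f a' b := by rw [hs', mul_one, hcen _ (fker a b)]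
  have fadd2 : ∀ a b b', f a (b + b') = f a b * f a b' := by
    intro a b b'
    have hlb : l 0 (b + b') 0 = l 0 b 0 * l 0 b' 0 := by
      have := ladd2 b 0 b' 0
      rwa [add_zero] at this
    have e : ∀ x y y' : E, ⁅x, y * y'⁆ = ⁅x, y⁆ * (y * ⁅x, y'⁆ * y⁻¹) := fun x y y' => by
      simp only [commutatorElement_def]; group
    show ⁅l a 0 0, l 0 (b + b') 0⁆ * l 0 0 (a * (b + b')) = f a b * f a b'
    rw [hlb, e, colc (l 0 b 0) ⁅l a 0 0, l 0 b' 0⁆ b 0 0 (a * b') (lproj 0 b 0 (Or.inl rfl))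
      (hpc a b'), mul_inv_cancel_right, fdef, fdef, mul_add, lz]
    have hs := rows _ 0 (a * b) (lproj 0 0 (a * b) (Or.inl rfl))
    have hs' := rows _ 0 (a * b') (lproj 0 0 (a * b') (Or.inl rfl))
    have hcc := rowc _ _ 0 (a * b) 0 (a * b') (lproj 0 0 (a * b) (Or.inl rfl))
      (lproj 0 0 (a * b') (Or.inl rfl))
    calc f a b * l 0 0 (a * b) * (f a b' * l 0 0 (a * b')) * (l 0 0 (a * b) * l 0 0 (a * b'))
        = f a b * (l 0 0 (a * b) * f a b') * (l 0 0 (a * b') * l 0 0 (a * b)) *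
            l 0 0 (a * b') := by group
      _ = f a b * (f a b' * l 0 0 (a * b)) * (l 0 0 (a * b) * l 0 0 (a * b')) *
            l 0 0 (a * b') := by rw [hcen _ (fker a b'), hcc]
      _ = f a b * f a b' * (l 0 0 (a * b) * l 0 0 (a * b)) *
            (l 0 0 (a * b') * l 0 0 (a * b')) := by group
      _ = f a b * f a b' := by rw [hs, hs', mul_one, mul_one]
  have finv : ∀ a b, f (w * a) (w * b) = f a b := by
    intro a b
    have e : ∀ x y : E, h * ⁅x, y⁆ * h⁻¹ = ⁅h * x * h⁻¹, h * y * h⁻¹⁆ := fun x y => by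
      simp only [commutatorElement_def]; group
    have h1 : h * f a b * h⁻¹ = f a b := by rw [hcen _ (fker a b) h, mul_inv_cancel_right]
    rw [← h1]
    show ⁅l (w * a) 0 0, l 0 (w * b) 0⁆ * l 0 0 (w * a * (w * b)) =
      h * (⁅l a 0 0, l 0 b 0⁆ * l 0 0 (a * b)) * h⁻¹
    rw [show h * (⁅l a 0 0, l 0 b 0⁆ * l 0 0 (a * b)) * h⁻¹ =
      (h * ⁅l a 0 0, l 0 b 0⁆ * h⁻¹) * (h * l 0 0 (a * b) * h⁻¹) by group,
      e, lh a 0 0 (Or.inr rfl), lh 0 b 0 (Or.inl rfl), lh 0 0 _ (Or.inl rfl)]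
    simp only [mul_zero]
    congr 2
    ring
  -- the values generate a subgroup of order at most 4
  let V0 : Subgroup E := Subgroup.closure {f 1 1, f 1 w}
  have hw4 : w * (w * w) = 1 := by rw [← hw3]; ring
  have fV0 : ∀ a b, f a b ∈ V0 := by
    have hp : f 1 1 ∈ V0 := Subgroup.subset_closure (Set.mem_insert _ _)
    have hq : f 1 w ∈ V0 := Subgroup.subset_closure (Set.mem_insert_of_mem _ rfl)
    have f01 : ∀ b, f 0 b = 1 := fun b => by
      have := fadd1 0 0 b
      rw [add_zero] at this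
      exact mul_left_cancel (a := f 0 b) (by rw [mul_one, ← this])
    have f02 : ∀ a, f a 0 = 1 := fun a => by
      have := fadd2 a 0 0
      rw [add_zero] at this
      exact mul_left_cancel (a := f a 0) (by rw [mul_one, ← this])
    have hwsq : w * w + 1 = w := by linear_combination hw2 + hadd (1 : K)
    have h1ww : f 1 (w * w) ∈ V0 := by rw [hw2, fadd2]; exact mul_mem hq hp
    have hww1 : f (w * w) 1 ∈ V0 := by
      have e := finv (w * w) 1
      rw [hw4, mul_one] at e
      rw [← e]; exact hq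
    have hw1' : f w 1 ∈ V0 := by rw [← hwsq, fadd1]; exact mul_mem hww1 hp
    have hwb : ∀ b, f 1 b ∈ V0 := fun b => by
      rcases hKcases b with rfl | rfl | rfl | rfl
      · rw [f02]; exact one_mem _
      · exact hp
      · exact hq
      · exact h1ww
    have hw_b : ∀ b, f w b ∈ V0 := fun b => by
      have : w * (w * w * b) = b := by rw [← mul_assoc, hw4, one_mul]
      have e := finv 1 (w * w * b)
      rw [mul_one, this] at e
      rw [e]; exact hwb _
    intro a b
    rcases hKcases a with rfl | rfl | rfl | rfl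
    · rw [f01]; exact one_mem _
    · exact hwb b
    · exact hw_b b
    · rw [hw2, fadd1]; exact mul_mem (hw_b b) (hwb b)
  have hV0ker : V0 ≤ π.ker := by
    rw [Subgroup.closure_le]
    rintro x (rfl | rfl) <;> exact MonoidHom.mem_ker.2 (fker _ _)
  -- the lifted Sylow subgroup
  let T : Set E := {x | ∃ k ∈ V0, ∃ a b c, x = k * (l 0 0 c * (l a 0 0 * l 0 b 0))}
  have Tmul : ∀ x ∈ T, ∀ y ∈ T, x * y ∈ T := by
    rintro x ⟨k, hk, a, b, c, rfl⟩ y ⟨k', hk', a', b', c', rfl⟩
    refine ⟨k * k' * f a' b, mul_mem (mul_mem hk hk') (fV0 _ _), a + a', b + b',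
      c + c' + a' * b, ?_⟩
    have hla : l (a + a') 0 0 = l a 0 0 * l a' 0 0 := by
      have := ladd1 a 0 a' 0
      rwa [add_zero] at this
    have hlb : l 0 (b + b') 0 = l 0 b 0 * l 0 b' 0 := by
      have := ladd2 b 0 b' 0
      rwa [add_zero] at this
    have hk'c := hcen k' (MonoidHom.mem_ker.1 (hV0ker hk'))
    have c1 : l 0 b 0 * l 0 0 c' = l 0 0 c' * l 0 b 0 :=
      colc _ _ b 0 0 c' (lproj 0 b 0 (Or.inl rfl)) (lproj 0 0 c' (Or.inl rfl))
    have c2 : l a 0 0 * l 0 0 c' = l 0 0 c' * l a 0 0 :=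
      rowc _ _ a 0 0 c' (lproj a 0 0 (Or.inr rfl)) (lproj 0 0 c' (Or.inl rfl))
    have c3 : l a 0 0 * l 0 0 (a' * b) = l 0 0 (a' * b) * l a 0 0 :=
      rowc _ _ a 0 0 (a' * b) (lproj a 0 0 (Or.inr rfl)) (lproj 0 0 _ (Or.inl rfl))
    have c4 : ∀ z, z * f a' b = f a' b * z := fun z => hcen _ (fker a' b) z
    have hsa := rows _ a' 0 (lproj a' 0 0 (Or.inr rfl))
    have hsb := cols _ b 0 (lproj 0 b 0 (Or.inl rfl))
    have key : l 0 b 0 * l a' 0 0 = f a' b * (l 0 0 (a' * b) * (l a' 0 0 * l 0 b 0)) := by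
      have hi : ⁅l a' 0 0, l 0 b 0⁆⁻¹ = f a' b * l 0 0 (a' * b) := by
        rw [fdef, mul_inv_rev, hinv _ (fsq a' b),
          hinv _ (rows _ 0 (a' * b) (lproj 0 0 _ (Or.inl rfl)))]
        exact c4 _
      rw [← mul_assoc, ← hi, commutatorElement_def]
      group
    rw [lz, lz, hla, hlb]
    calc k * (l 0 0 c * (l a 0 0 * l 0 b 0)) * (k' * (l 0 0 c' * (l a' 0 0 * l 0 b' 0)))
        = k * ((l 0 0 c * (l a 0 0 * l 0 b 0)) * k') *
            (l 0 0 c' * (l a' 0 0 * l 0 b' 0)) := by group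
      _ = k * k' * (l 0 0 c * (l a 0 0 * (l 0 b 0 * l 0 0 c') *
            (l a' 0 0 * l 0 b' 0))) := by rw [hk'c]; group
      _ = k * k' * (l 0 0 c * (l a 0 0 * l 0 0 c' *
            ((l 0 b 0 * l a' 0 0) * l 0 b' 0))) := by rw [c1]; group
      _ = k * k' * (l 0 0 c * l 0 0 c' * (l a 0 0 *
            (f a' b * (l 0 0 (a' * b) * (l a' 0 0 * l 0 b 0)) * l 0 b' 0))) := by
          rw [c2, key]; group
      _ = k * k' * ((l 0 0 c * l 0 0 c' * (l a 0 0 * f a' b)) *
            (l 0 0 (a' * b) * (l a' 0 0 * l 0 b 0) * l 0 b' 0)) := by group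
      _ = k * k' * (((l 0 0 c * l 0 0 c') * f a' b) * (l a 0 0 * l 0 0 (a' * b)) *
            (l a' 0 0 * l 0 b 0 * l 0 b' 0)) := by rw [c4 (l a 0 0)]; group
      _ = k * k' * f a' b * (l 0 0 c * l 0 0 c' * l 0 0 (a' * b) *
            (l a 0 0 * l a' 0 0 * (l 0 b 0 * l 0 b' 0))) := by
          rw [c4 (l 0 0 c * l 0 0 c'), c3]; group
  have Tone : (1 : E) ∈ T := ⟨1, one_mem _, 0, 0, 0, by rw [lzero, one_mul, one_mul, one_mul]⟩
  let Ts : Subgroup E :=
    { carrier := T
      one_mem' := Tone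
      mul_mem' := fun hx hy => Tmul _ hx _ hy
      inv_mem' := fun {x} hx => by
        have hp : ∀ n : ℕ, x ^ n ∈ T := fun n => by
          induction n with
          | zero => rw [pow_zero]; exact Tone
          | succ n ih => rw [pow_succ]; exact Tmul _ ih _ hx
        have : x⁻¹ = x ^ (orderOf x - 1) := by
          rw [inv_eq_of_mul_eq_one_left]
          rw [← pow_succ, Nat.sub_add_cancel (orderOf_pos x), pow_orderOf_eq_one]
        rw [this]
        exact hp _ }
  -- image and index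
  have hprojT : ∀ a b c, π (l 0 0 c * (l a 0 0 * l 0 b 0)) = uP K a b (c + a * b) := by
    intro a b c
    rw [map_mul, map_mul, lproj a 0 0 (Or.inr rfl), lproj 0 b 0 (Or.inl rfl),
      lproj 0 0 c (Or.inl rfl), uP_mul, uP_mul]
    simp
  have hTker : ∀ x ∈ T, π x = 1 → x ∈ V0 := by
    rintro x ⟨k, hk, a, b, c, rfl⟩ hx
    rw [map_mul, MonoidHom.mem_ker.1 (hV0ker hk), one_mul, hprojT, ← uP_zero K] at hx
    obtain ⟨rfl, rfl, hc'⟩ := uP_injective K hx
    rw [mul_zero, add_zero] at hc'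
    subst hc'
    rwa [lzero, one_mul, one_mul, mul_one]
  have hcardT : Nat.card (Ts.map π) = 64 := by
    have hset : ((Ts.map π : Subgroup L₃) : Set L₃) =
        Set.range (fun v : K × K × K => uP K v.1 v.2.1 v.2.2) := by
      ext g
      constructor
      · rintro ⟨x, ⟨k, hk, a, b, c, rfl⟩, rfl⟩
        refine ⟨(a, b, c + a * b), ?_⟩
        rw [map_mul, MonoidHom.mem_ker.1 (hV0ker hk), one_mul, hprojT]
      · rintro ⟨⟨a, b, c⟩, rfl⟩
        refine ⟨_, ⟨1, one_mem _, a, b, c - a * b, rfl⟩, ?_⟩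
        rw [one_mul, hprojT, sub_add_cancel]
    rw [← SetLike.coe_sort_coe, hset, Nat.card_range_of_injective]
    · simp [Nat.card_eq_fintype_card, hK]
    · rintro ⟨a, b, c⟩ ⟨a', b', c'⟩ he
      obtain ⟨rfl, rfl, rfl⟩ := uP_injective K he
      rfl
  haveI hkn : π.ker.Normal := π.normal_ker
  let W : Subgroup E := Ts ⊔ π.ker
  have hWidx : W.index = 315 := by
    have h1 : (W.map π).index = W.index :=
      Subgroup.index_map_eq W hπ le_sup_right
    have h2' : W.map π = Ts.map π := by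
      rw [Subgroup.map_sup, (Subgroup.map_eq_bot_iff π.ker).2 le_rfl, sup_bot_eq]
    have h3 := Subgroup.card_mul_index (Ts.map π)
    rw [hcardT, natCard_L34 K hK] at h3
    rw [← h1, h2']
    omega
  have hWcomm : ⁅W, W⁆ ≤ Ts := by
    rw [Subgroup.commutator_le]
    intro x hx y hy
    obtain ⟨t, ht, v, hv, rfl⟩ := Subgroup.mem_sup_of_normal_right.1 hx
    obtain ⟨t', ht', v', hv', rfl⟩ := Subgroup.mem_sup_of_normal_right.1 hy
    have hv1 := hcen v (MonoidHom.mem_ker.1 hv)
    have hv2 := hcen v' (MonoidHom.mem_ker.1 hv')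
    have e : ⁅t * v, t' * v'⁆ = ⁅t, t'⁆ := by
      simp only [commutatorElement_def, mul_inv_rev]
      calc t * v * (t' * v') * (v⁻¹ * t⁻¹) * (v'⁻¹ * t'⁻¹)
          = t * v * t' * (v' * (v⁻¹ * t⁻¹)) * v'⁻¹ * t'⁻¹ := by group
        _ = t * v * t' * ((v⁻¹ * t⁻¹) * v') * v'⁻¹ * t'⁻¹ := by rw [← hv2]
        _ = t * (v * t') * v⁻¹ * t⁻¹ * t'⁻¹ := by group
        _ = t * (t' * v) * v⁻¹ * t⁻¹ * t'⁻¹ := by rw [← hv1]
        _ = t * t' * t⁻¹ * t'⁻¹ := by group
    rw [e, commutatorElement_def]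
    exact mul_mem (mul_mem (mul_mem ht ht') (inv_mem ht)) (inv_mem ht')
  have hker : π.ker ≤ V0 := by
    intro v hv
    have hv0 := MonoidHom.mem_ker.1 hv
    haveI : W.FiniteIndex := ⟨by omega⟩
    let φ : W →* Abelianization W := Abelianization.of
    have h0 : MonoidHom.transfer φ v = 1 := by
      have : v ∈ (MonoidHom.transfer φ).ker :=
        Abelianization.commutator_subset_ker _ (by rw [hperf]; exact Subgroup.mem_top v)
      exact this
    have key : ∀ (k : ℕ) (g₀ : E), g₀⁻¹ * v ^ k * g₀ ∈ W → g₀⁻¹ * v ^ k * g₀ = v ^ k := by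
      intro k g₀ _
      have hk : π (v ^ k) = 1 := by rw [map_pow, hv0, one_pow]
      rw [hcen _ hk g₀⁻¹, inv_mul_cancel_right]
    rw [MonoidHom.transfer_eq_pow φ v key] at h0
    have h1 : v ^ W.index ∈ ⁅W, W⁆ := by
      have h1' := h0
      rw [← MonoidHom.mem_ker, Abelianization.ker_of] at h1'
      have h3 := Subgroup.mem_map_of_mem W.subtype h1'
      rwa [Subgroup.map_subtype_commutator] at h3
    have h2' : v ^ W.index = v := by
      rw [hWidx, show 315 = 2 * 157 + 1 from rfl, pow_succ, pow_mul, sq, h2 v hv, one_pow, one_mul]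
    rw [h2'] at h1
    exact hTker v (hWcomm h1) hv0
  have hV0le : (V0 : Set E) ⊆ ↑({1, f 1 1, f 1 w, f 1 1 * f 1 w} : Finset E) := by
    intro x hx
    have hcm : f 1 w * f 1 1 = f 1 1 * f 1 w := hcen _ (fker 1 1) _
    have hs1 := fsq 1 1
    have hs2 := fsq 1 w
    have hs3 : f 1 1 * f 1 w * f 1 w = f 1 1 := by rw [mul_assoc, hs2, mul_one]
    induction hx using Subgroup.closure_induction_left with
    | one => simp
    | mul_left x hx y _ ih =>
      simp only [Finset.coe_insert, Finset.coe_singleton, Set.mem_insert_iff,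
        Set.mem_singleton_iff] at hx ih ⊢
      rcases hx with rfl | rfl <;> rcases ih with rfl | rfl | rfl | rfl <;>
        simp [hs1, hs2, hs3, hcm, ← mul_assoc]
    | inv_mul_cancel x hx y _ ih =>
      simp only [Finset.coe_insert, Finset.coe_singleton, Set.mem_insert_iff,
        Set.mem_singleton_iff] at hx ih ⊢
      rcases hx with rfl | rfl <;> rcases ih with rfl | rfl | rfl | rfl <;>
        simp [hinv _ hs1, hinv _ hs2, hs1, hs2, hs3, hcm, ← mul_assoc]
  calc Nat.card π.ker ≤ Nat.card ↥(V0 : Set E) :=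
        Nat.card_le_card_of_injective (Subgroup.inclusion hker) (Subgroup.inclusion_injective _)
    _ ≤ Nat.card ↥(↑({1, f 1 1, f 1 w, f 1 1 * f 1 w} : Finset E) : Set E) :=
        Nat.card_mono (Finset.finite_toSet _) hV0le
    _ ≤ 4 := by simpa using Finset.card_le_four

end Cfsg.Agent.CoverL34
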