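import Cfsg.Agent.Lib.CoverL34.Main
import Cfsg.Agent.Lib.Basics.Gaschutz
import Cfsg.Prelude.Def_Transfer

/-!
In a central extension of `PSL(3,4)` with kernel of exponent two, the preimages of the two
maximal elementary abelian subgroups of a Sylow 2-subgroup split in their normalisers.
-/

set_option autoImplicit false

namespace Cfsg.Agent.CoverL34

variable (K : Type) [Field K] [Fintype K]

local notation "SL₃" => Matrix.SpecialLinearGroup (Fin 3) K
local notation "SL₂" => Matrix.SpecialLinearGroup (Fin 2) K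
local notation "L₃" => Matrix.ProjectiveSpecialLinearGroup (Fin 3) K
local notation "M3" => Matrix (Fin 3) (Fin 3) K

/-- The data of one of the two elementary abelian subgroups with its complement. -/
structure Data where
  f : K × K → L₃
  f_add : ∀ v w, f (v + w) = f v * f w
  f_inj : Function.Injective f
  σ : SL₂ →* L₃
  σ_inj : Function.Injective σ
  act : SL₂ → K × K → K × K
  σ_conj : ∀ A v, σ A * f v = f (act A v) * σ A
  act_faith : ∀ A, act A (1, 0) = (1, 0) → act A (0, 1) = (0, 1) → A = 1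
  disj : ∀ A v, σ A = f v → A = 1
  e : K × K
  e_ne : e ≠ 0
  norm : ∀ g v, g * f e = f v * g → ∃ A w, g = σ A * f w
  trans : ∀ v, v ≠ 0 → ∃ g : L₃, g * f e = f v * g

variable {K}

theorem SL_ext {M N : SL₃} (h : (M : M3) = N) : M = N := Subtype.ext h

omit [Fintype K] in
theorem mk_eq_mk {M N : SL₃} (h : (QuotientGroup.mk M : L₃) = QuotientGroup.mk N) :
    ∃ r : K, r ^ 3 = 1 ∧ (N : M3) = (M : M3) * Matrix.scalar (Fin 3) r := by
  rw [QuotientGroup.eq] at h
  obtain ⟨r, hr3, hr⟩ := Matrix.SpecialLinearGroup.mem_center_iff.1 h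
  refine ⟨r, by simpa using hr3, ?_⟩
  rw [hr, Matrix.SpecialLinearGroup.coe_mul, ← mul_assoc, ← Matrix.SpecialLinearGroup.coe_mul,
    mul_inv_cancel, Matrix.SpecialLinearGroup.coe_one, one_mul]

omit [Fintype K] in
/-- Conjugation between unitriangular images lifts exactly. -/
theorem exact_conj {M : SL₃} {a b c a' b' c' : K} (h3 : (3 : K) ≠ 0)
    (h : (QuotientGroup.mk M : L₃) * uP K a b c = uP K a' b' c' * QuotientGroup.mk M) :
    (M : M3) * !![1, a, c; 0, 1, b; 0, 0, 1] = !![1, a', c'; 0, 1, b'; 0, 0, 1] * M := by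
  rw [uP, uP, ← QuotientGroup.mk_mul, ← QuotientGroup.mk_mul] at h
  obtain ⟨r, -, hr⟩ := mk_eq_mk h
  rw [Matrix.SpecialLinearGroup.coe_mul, Matrix.SpecialLinearGroup.coe_mul] at hr
  have hU : ∀ a b c : K, (uM K a b c : M3) = !![1, a, c; 0, 1, b; 0, 0, 1] := fun _ _ _ => rfl
  rw [hU, hU] at hr
  have hM : (M : M3) * ((M⁻¹ : SL₃) : M3) = 1 := by
    rw [← Matrix.SpecialLinearGroup.coe_mul, mul_inv_cancel, Matrix.SpecialLinearGroup.coe_one]
  have hM' : ((M⁻¹ : SL₃) : M3) * (M : M3) = 1 := by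
    rw [← Matrix.SpecialLinearGroup.coe_mul, inv_mul_cancel, Matrix.SpecialLinearGroup.coe_one]
  have htr : (((M⁻¹ : SL₃) : M3) * (!![1, a', c'; 0, 1, b'; 0, 0, 1] * (M : M3))).trace =
      (((M⁻¹ : SL₃) : M3) * ((M : M3) * !![1, a, c; 0, 1, b; 0, 0, 1] * Matrix.scalar (Fin 3) r)).trace := by
    rw [hr]
  rw [Matrix.trace_mul_comm, mul_assoc, hM, mul_one, ← mul_assoc, ← mul_assoc, hM', one_mul] at htr
  simp [Matrix.trace_fin_three, Matrix.mul_apply, Fin.sum_univ_three] at htr
  have hr1 : r = 1 := mul_left_cancel₀ h3 (by linear_combination -htr)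
  rw [hr1, map_one, mul_one] at hr
  exact hr.symm

theorem three_ne (hK : Fintype.card K = 4) : (3 : K) ≠ 0 := by
  obtain ⟨hadd, -⟩ := field_facts hK
  intro h
  apply one_ne_zero (α := K)
  linear_combination h - hadd 1

theorem cube_eq_one (hK : Fintype.card K = 4) {d : K} (hd : d ≠ 0) : d ^ 3 = 1 := by
  have := FiniteField.pow_card_sub_one_eq_one d hd
  rwa [hK] at this

/-- The matrix of `blockR`. -/
def bR (A : SL₂) : M3 := !![1, 0, 0; 0, A 0 0, A 0 1; 0, A 1 0, A 1 1]

/-- The matrix of `blockC`. -/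
def bC (A : SL₂) : M3 := !![A 0 0, A 0 1, 0; A 1 0, A 1 1, 0; 0, 0, 1]

/-- The block matrix with a one in the first place. -/
def blockR : SL₂ →* SL₃ :=
  MonoidHom.mk' (fun A => ⟨bR A, by
    have h := A.det_coe
    rw [Matrix.det_fin_two] at h
    simp [bR, Matrix.det_fin_three]
    linear_combination h⟩) fun A B => by
    apply Subtype.ext
    show bR (A * B) = bR A * bR B
    simp only [bR]
    ext i j
    fin_cases i <;> fin_cases j <;> simp [Matrix.mul_apply, Fin.sum_univ_two, Fin.sum_univ_three]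

/-- The block matrix with a one in the last place. -/
def blockC : SL₂ →* SL₃ :=
  MonoidHom.mk' (fun A => ⟨bC A, by
    have h := A.det_coe
    rw [Matrix.det_fin_two] at h
    simp [bC, Matrix.det_fin_three]
    linear_combination h⟩) fun A B => by
    apply Subtype.ext
    show bC (A * B) = bC A * bC B
    simp only [bC]
    ext i j
    fin_cases i <;> fin_cases j <;> simp [Matrix.mul_apply, Fin.sum_univ_two, Fin.sum_univ_three]

omit [Fintype K] in
theorem blockR_coe (A : SL₂) :
    (blockR A : M3) = !![1, 0, 0; 0, A 0 0, A 0 1; 0, A 1 0, A 1 1] := rfl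

omit [Fintype K] in
theorem blockC_coe (A : SL₂) :
    (blockC A : M3) = !![A 0 0, A 0 1, 0; A 1 0, A 1 1, 0; 0, 0, 1] := rfl

omit [Fintype K] in
theorem mat2_eq_one {A : SL₂} (h00 : A 0 0 = 1) (h01 : A 0 1 = 0) (h10 : A 1 0 = 0) (h11 : A 1 1 = 1) :
    A = 1 := by
  apply Subtype.ext
  ext i j
  fin_cases i <;> fin_cases j <;> simp [h00, h01, h10, h11]

omit [Fintype K] in
theorem scaled {M : SL₃} {r : K} (hr : r ^ 3 = 1) :
    ∃ N : SL₃, (N : M3) = r • (M : M3) ∧ (QuotientGroup.mk N : L₃) = QuotientGroup.mk M := by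
  refine ⟨⟨r • (M : M3), by simp [Matrix.det_smul, hr]⟩, rfl, ?_⟩
  refine (QuotientGroup.eq.2 ?_).symm
  rw [Matrix.SpecialLinearGroup.mem_center_iff]
  refine ⟨r, by simpa using hr, ?_⟩
  show Matrix.scalar (Fin 3) r = ((M⁻¹ : SL₃) : M3) * (r • (M : M3))
  rw [mul_smul_comm, ← Matrix.SpecialLinearGroup.coe_mul, inv_mul_cancel,
    Matrix.SpecialLinearGroup.coe_one, Matrix.scalar_apply, Matrix.smul_one_eq_diagonal]

theorem add_eq_zero' (hK : Fintype.card K = 4) (a : K) : a + a = 0 := (field_facts hK).1 a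

/-- The subgroup of the first row. -/
def rowData (hK : Fintype.card K = 4) : Data K where
  f v := uP K v.1 0 v.2
  f_add v w := by rw [uP_mul]; simp
  f_inj v w h := by obtain ⟨h1, -, h2⟩ := uP_injective K h; exact Prod.ext h1 h2
  σ := (QuotientGroup.mk' (Subgroup.center SL₃)).comp blockR
  σ_inj := by
    intro A B h
    obtain ⟨r, -, hr⟩ := mk_eq_mk (show (QuotientGroup.mk (blockR A) : L₃) = QuotientGroup.mk (blockR B) from h)
    rw [blockR_coe, blockR_coe] at hr
    have e00 := congrFun (congrFun hr 0) 0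
    simp [Matrix.mul_apply, Fin.sum_univ_three, Matrix.scalar_apply] at e00
    rw [← e00, map_one, mul_one] at hr
    apply Subtype.ext
    ext i j
    fin_cases i <;> fin_cases j
    · simpa using (congrFun (congrFun hr 1) 1).symm
    · simpa using (congrFun (congrFun hr 1) 2).symm
    · simpa using (congrFun (congrFun hr 2) 1).symm
    · simpa using (congrFun (congrFun hr 2) 2).symm
  act A v := (v.1 * A 1 1 - v.2 * A 1 0, v.2 * A 0 0 - v.1 * A 0 1)
  σ_conj A v := by
    refine mP_mul_uP K (M := (blockR A : M3)) (h := (blockR A).det_coe) ?_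
    rw [blockR_coe]
    have h := A.det_coe
    rw [Matrix.det_fin_two] at h
    ext i j
    fin_cases i <;> fin_cases j <;> simp [Matrix.mul_apply, Fin.sum_univ_three]
    · linear_combination (-v.1) * h
    · linear_combination (-v.2) * h
  act_faith A h1 h2 := by
    simp [Prod.ext_iff] at h1 h2
    exact mat2_eq_one h2.2 h1.2 h2.1 h1.1
  disj A v h := by
    obtain ⟨r, -, hr⟩ := mk_eq_mk (show (QuotientGroup.mk (blockR A) : L₃) = QuotientGroup.mk (uM K v.1 0 v.2) from h)
    rw [blockR_coe] at hr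
    have e00 := congrFun (congrFun hr 0) 0
    simp [uM, Matrix.mul_apply, Fin.sum_univ_three, Matrix.scalar_apply] at e00
    rw [← e00, map_one, mul_one] at hr
    refine mat2_eq_one ?_ ?_ ?_ ?_
    · simpa [uM] using (congrFun (congrFun hr 1) 1).symm
    · simpa [uM] using (congrFun (congrFun hr 1) 2).symm
    · simpa [uM] using (congrFun (congrFun hr 2) 1).symm
    · simpa [uM] using (congrFun (congrFun hr 2) 2).symm
  e := (1, 0)
  e_ne := by simp
  norm g v h := by
    obtain ⟨M, rfl⟩ := QuotientGroup.mk_surjective g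
    have he := exact_conj (three_ne hK) h
    have e10 := congrFun (congrFun he 1) 1
    have e20 := congrFun (congrFun he 2) 1
    simp [Matrix.mul_apply, Fin.sum_univ_three] at e10 e20
    have hdet : (M : M3).det = 1 := M.det_coe
    rw [Matrix.det_fin_three, e10, e20] at hdet
    have hd : (M : M3) 0 0 ≠ 0 := fun h0 => by rw [h0] at hdet; simp at hdet
    obtain ⟨N, hN, hNM⟩ := scaled (M := M) (r := ((M : M3) 0 0)⁻¹) (by rw [inv_pow, cube_eq_one hK hd, inv_one])
    have hdN : (N : M3).det = 1 := N.det_coe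
    have n00 : (N : M3) 0 0 = 1 := by rw [hN]; simp [hd]
    have n10 : (N : M3) 1 0 = 0 := by rw [hN]; simp [e10]
    have n20 : (N : M3) 2 0 = 0 := by rw [hN]; simp [e20]
    rw [Matrix.det_fin_three, n00, n10, n20] at hdN
    refine ⟨⟨!![(N : M3) 1 1, (N : M3) 1 2; (N : M3) 2 1, (N : M3) 2 2], by
      rw [Matrix.det_fin_two_of]; linear_combination hdN⟩, ((N : M3) 0 1, (N : M3) 0 2), ?_⟩
    show (QuotientGroup.mk M : L₃) = QuotientGroup.mk (blockR _) * QuotientGroup.mk (uM K _ _ _)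
    rw [← hNM, ← QuotientGroup.mk_mul]
    congr 1
    apply Subtype.ext
    show (N : M3) = !![1, 0, 0; 0, (N : M3) 1 1, (N : M3) 1 2; 0, (N : M3) 2 1, (N : M3) 2 2] *
      !![1, (N : M3) 0 1, (N : M3) 0 2; 0, 1, 0; 0, 0, 1]
    ext i j
    fin_cases i <;> fin_cases j <;> simp [uM, Matrix.mul_apply, Fin.sum_univ_three, n00, n10, n20]
  trans v hv := row_trans K v.1 v.2 fun h => hv (Prod.ext (congrArg Prod.fst h) (congrArg Prod.snd h))

/-- The subgroup of the last column. -/
def colData (hK : Fintype.card K = 4) : Data K where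
  f v := uP K 0 v.1 v.2
  f_add v w := by rw [uP_mul]; simp
  f_inj v w h := by obtain ⟨-, h1, h2⟩ := uP_injective K h; exact Prod.ext h1 h2
  σ := (QuotientGroup.mk' (Subgroup.center SL₃)).comp blockC
  σ_inj := by
    intro A B h
    obtain ⟨r, -, hr⟩ := mk_eq_mk (show (QuotientGroup.mk (blockC A) : L₃) = QuotientGroup.mk (blockC B) from h)
    rw [blockC_coe, blockC_coe] at hr
    have e22 := congrFun (congrFun hr 2) 2
    simp [Matrix.mul_apply, Fin.sum_univ_three, Matrix.scalar_apply] at e22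
    rw [← e22, map_one, mul_one] at hr
    apply Subtype.ext
    ext i j
    fin_cases i <;> fin_cases j
    · simpa using (congrFun (congrFun hr 0) 0).symm
    · simpa using (congrFun (congrFun hr 0) 1).symm
    · simpa using (congrFun (congrFun hr 1) 0).symm
    · simpa using (congrFun (congrFun hr 1) 1).symm
  act A v := (A 1 0 * v.2 + A 1 1 * v.1, A 0 0 * v.2 + A 0 1 * v.1)
  σ_conj A v := by
    refine mP_mul_uP K (M := (blockC A : M3)) (h := (blockC A).det_coe) ?_
    rw [blockC_coe]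
    ext i j
    fin_cases i <;> fin_cases j <;> simp [Matrix.mul_apply, Fin.sum_univ_three]
  act_faith A h1 h2 := by
    simp [Prod.ext_iff] at h1 h2
    exact mat2_eq_one h2.2 h1.2 h2.1 h1.1
  disj A v h := by
    obtain ⟨r, -, hr⟩ := mk_eq_mk (show (QuotientGroup.mk (blockC A) : L₃) = QuotientGroup.mk (uM K 0 v.1 v.2) from h)
    rw [blockC_coe] at hr
    have e22 := congrFun (congrFun hr 2) 2
    simp [uM, Matrix.mul_apply, Fin.sum_univ_three, Matrix.scalar_apply] at e22
    rw [← e22, map_one, mul_one] at hr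
    refine mat2_eq_one ?_ ?_ ?_ ?_
    · simpa [uM] using (congrFun (congrFun hr 0) 0).symm
    · simpa [uM] using (congrFun (congrFun hr 0) 1).symm
    · simpa [uM] using (congrFun (congrFun hr 1) 0).symm
    · simpa [uM] using (congrFun (congrFun hr 1) 1).symm
  e := (1, 0)
  e_ne := by simp
  norm g v h := by
    obtain ⟨M, rfl⟩ := QuotientGroup.mk_surjective g
    have he := exact_conj (three_ne hK) h
    have e21 := congrFun (congrFun he 2) 2
    have f0 := congrFun (congrFun he 0) 0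
    have f1 := congrFun (congrFun he 1) 0
    have g0 := congrFun (congrFun he 0) 2
    have g1 := congrFun (congrFun he 1) 2
    simp [Matrix.mul_apply, Fin.sum_univ_three] at e21 f0 f1 g0 g1
    have hdet : (M : M3).det = 1 := M.det_coe
    rw [Matrix.det_fin_three] at hdet
    have e20 : (M : M3) 2 0 = 0 := by
      by_contra h0
      have hc : v.2 = 0 := f0.resolve_right h0
      have hb : v.1 = 0 := f1.resolve_right h0
      have m01 : (M : M3) 0 1 = 0 := by rw [hc] at g0; linear_combination g0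
      have m11 : (M : M3) 1 1 = 0 := by rw [hb] at g1; linear_combination g1
      rw [e21, m01, m11] at hdet; simp at hdet
    rw [e21, e20] at hdet
    have hd : (M : M3) 2 2 ≠ 0 := fun h0 => by rw [h0] at hdet; simp at hdet
    obtain ⟨N, hN, hNM⟩ := scaled (M := M) (r := ((M : M3) 2 2)⁻¹) (by rw [inv_pow, cube_eq_one hK hd, inv_one])
    have hdN : (N : M3).det = 1 := N.det_coe
    have n22 : (N : M3) 2 2 = 1 := by rw [hN]; simp [hd]
    have n20 : (N : M3) 2 0 = 0 := by rw [hN]; simp [e20]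
    have n21 : (N : M3) 2 1 = 0 := by rw [hN]; simp [e21]
    rw [Matrix.det_fin_three, n22, n20, n21] at hdN
    obtain ⟨A, hA⟩ : ∃ A : SL₂, A = ⟨!![(N : M3) 0 0, (N : M3) 0 1; (N : M3) 1 0, (N : M3) 1 1], by
      rw [Matrix.det_fin_two_of]; linear_combination hdN⟩ := ⟨_, rfl⟩
    refine ⟨A, ((N : M3) 0 0 * (N : M3) 1 2 - (N : M3) 1 0 * (N : M3) 0 2,
      (N : M3) 1 1 * (N : M3) 0 2 - (N : M3) 0 1 * (N : M3) 1 2), ?_⟩
    show (QuotientGroup.mk M : L₃) = QuotientGroup.mk (blockC A) * QuotientGroup.mk (uM K _ _ _)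
    rw [← hNM, ← QuotientGroup.mk_mul, hA]
    congr 1
    apply Subtype.ext
    show (N : M3) = !![(N : M3) 0 0, (N : M3) 0 1, 0; (N : M3) 1 0, (N : M3) 1 1, 0; 0, 0, 1] *
      !![1, 0, (N : M3) 1 1 * (N : M3) 0 2 - (N : M3) 0 1 * (N : M3) 1 2; 0, 1,
        (N : M3) 0 0 * (N : M3) 1 2 - (N : M3) 1 0 * (N : M3) 0 2; 0, 0, 1]
    ext i j
    fin_cases i <;> fin_cases j <;> simp [uM, Matrix.mul_apply, Fin.sum_univ_three, n22, n20, n21]
    · linear_combination (-(N : M3) 0 2) * hdN
    · linear_combination (-(N : M3) 1 2) * hdN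
  trans v hv := col_trans K v.1 v.2 fun h => hv (Prod.ext (congrArg Prod.fst h) (congrArg Prod.snd h))

namespace Data

variable (D : Data K)

/-- The elementary abelian subgroup. -/
def sub : Subgroup L₃ :=
  MonoidHom.range ({ toFun := fun v => D.f v.toAdd
                     map_one' := mul_left_cancel (a := D.f 0) (by
                       show D.f 0 * D.f 0 = _
                       rw [← D.f_add, add_zero, mul_one])
                     map_mul' := fun v w => D.f_add v.toAdd w.toAdd } : Multiplicative (K × K) →* L₃)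

theorem mem_sub {g : L₃} : g ∈ D.sub ↔ ∃ v, g = D.f v :=
  ⟨fun ⟨v, hv⟩ => ⟨v.toAdd, hv.symm⟩, fun ⟨v, hv⟩ => ⟨Multiplicative.ofAdd v, hv.symm⟩⟩

theorem σ_normalizes (A : SL₂) {g : L₃} (hg : g ∈ D.sub) : D.σ A * g * (D.σ A)⁻¹ ∈ D.sub := by
  obtain ⟨v, rfl⟩ := D.mem_sub.1 hg
  exact D.mem_sub.2 ⟨D.act A v, by rw [D.σ_conj, mul_inv_cancel_right]⟩

theorem centralizer_le {g : L₃} (hg : ∀ v, g * D.f v = D.f v * g) : g ∈ D.sub := by
  obtain ⟨A, w, rfl⟩ := D.norm g D.e (hg D.e)
  have hcomm : ∀ v, D.act A v = v := fun v => by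
    apply D.f_inj
    have h1 := hg v
    rw [mul_assoc, ← D.f_add, add_comm, D.f_add, ← mul_assoc, ← mul_assoc, D.σ_conj,
      mul_assoc, mul_assoc] at h1
    exact mul_right_cancel h1
  rw [D.act_faith A (hcomm _) (hcomm _), map_one, one_mul]
  exact D.mem_sub.2 ⟨w, rfl⟩

variable {X : Type*} [Group X] [Finite X] {π : X →* Matrix.ProjectiveSpecialLinearGroup (Fin 3) K}

/-- Main splitting statement for the preimage of one of the two subgroups. -/
theorem main (hK : Fintype.card K = 4) (hπ : Function.Surjective π) (hc : π.ker ≤ Subgroup.center X)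
    (h2 : ∀ v ∈ π.ker, v * v = 1) (H : Subgroup X) (hH : H = D.sub.comap π)
    (D' : Data K) (u : K → SL₂) (hu : ∀ s t, u (s + t) = u s * u t) (hu' : Function.Injective u)
    (huD : ∀ t, D.σ (u t) ∈ D'.sub) :
    Cfsg.IsElementaryAbelian 2 H ∧ Subgroup.centralizer (H : Set X) ≤ H ∧
      ∃ C : Subgroup X, C ≤ Subgroup.normalizer (H : Set X) ∧ C ⊓ H = ⊥ ∧
        H ⊔ C = Subgroup.normalizer (H : Set X) ∧ Nonempty (↥C ≃* SL₂) := by
  classical
  have hadd : ∀ v : K × K, v + v = 0 := fun v => Prod.ext (add_eq_zero' hK _) (add_eq_zero' hK _)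
  have helem : ∀ E : Data K, (∀ y : X, ∀ v, π y = E.f v → y * y = 1) ∧
      ∀ y z : X, ∀ v w, π y = E.f v → π z = E.f w → y * z = z * y := fun E =>
    preimage_elementary π hπ hc h2 hadd (pair_avoid hK) E.f E.f_add E.e E.e_ne E.trans
  have hmem : ∀ y, y ∈ H ↔ ∃ v, π y = D.f v := fun y => by rw [hH, Subgroup.mem_comap, D.mem_sub]
  have hker : π.ker ≤ H := fun y hy => by
    rw [hH, Subgroup.mem_comap, MonoidHom.mem_ker.1 hy]; exact one_mem _
  refine ⟨⟨⟨⟨fun a b => ?_⟩⟩, fun g hg => ?_⟩, fun x hx => ?_, ?_⟩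
  · obtain ⟨v, hv⟩ := (hmem a).1 a.2
    obtain ⟨w, hw⟩ := (hmem b).1 b.2
    exact Subtype.ext ((helem D).2 a b v w hv hw)
  · obtain ⟨v, hv⟩ := (hmem g).1 hg
    rw [sq]; exact (helem D).1 g v hv
  · rw [hH, Subgroup.mem_comap]
    refine D.centralizer_le fun v => ?_
    obtain ⟨y, hy⟩ := hπ (D.f v)
    rw [← hy, ← map_mul, ← map_mul, Subgroup.mem_centralizer_iff.1 hx y ((hmem y).2 ⟨v, hy⟩)]
  have h60 : Nat.card SL₂ = 60 := by
    have h := LinGrp.natCard_SL_mul (F := K) 2 (by norm_num)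
    rw [hK, Fin.prod_univ_two, Fin.val_zero, Fin.val_one] at h
    omega
  -- the preimage of the complement is split over the kernel
  obtain ⟨E, hE⟩ : ∃ E : Subgroup X, E = D.σ.range.comap π := ⟨_, rfl⟩
  obtain ⟨U, hU⟩ : ∃ U : Subgroup E, U = (D'.sub.comap π).subgroupOf E := ⟨_, rfl⟩
  have hZE : π.ker ≤ E := fun y hy => by
    rw [hE, Subgroup.mem_comap, MonoidHom.mem_ker.1 hy]; exact one_mem _
  haveI : (π.ker.subgroupOf E).Normal := inferInstance
  haveI : IsMulCommutative ↥(π.ker.subgroupOf E) := ⟨⟨fun a b => Subtype.ext (Subtype.ext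
    (Subgroup.mem_center_iff.1 (hc (Subgroup.mem_subgroupOf.1 b.2)) _))⟩⟩
  have hKU : π.ker.subgroupOf E ≤ U := fun y hy => by
    rw [hU, Subgroup.mem_subgroupOf, Subgroup.mem_comap, MonoidHom.mem_ker.1 (Subgroup.mem_subgroupOf.1 hy)]
    exact one_mem _
  -- the map from `E` to the complement
  have hEσ : ∀ y : E, ∃! A, D.σ A = π y := fun y => by
    have : (y : X) ∈ D.σ.range.comap π := hE.le y.2
    obtain ⟨A, hA⟩ := this
    exact ⟨A, hA, fun B hB => D.σ_inj (hB.trans hA.symm)⟩
  choose ρ hρ hρu using hEσ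
  let ρh : E →* SL₂ := MonoidHom.mk' ρ fun y z => D.σ_inj (by
    rw [map_mul, hρ, hρ, hρ, ← map_mul]; rfl)
  have hρsurj : Function.Surjective ρh := fun A => by
    obtain ⟨y, hy⟩ := hπ (D.σ A)
    exact ⟨⟨y, hE ▸ ⟨A, hy.symm⟩⟩, D.σ_inj ((hρ _).trans hy)⟩
  have hρker : ρh.ker = π.ker.subgroupOf E := by
    ext y
    rw [MonoidHom.mem_ker, Subgroup.mem_subgroupOf, MonoidHom.mem_ker, ← hρ y]
    exact ⟨fun h => by rw [show ρ y = 1 from h, map_one], fun h => D.σ_inj (h.trans (map_one _).symm)⟩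
  let uh : Multiplicative K →* SL₂ := MonoidHom.mk' (fun t => u t.toAdd) fun s t => hu _ _
  have hur : uh.range ≤ U.map ρh := by
    rintro _ ⟨t, rfl⟩
    obtain ⟨y, hy⟩ := hρsurj (uh t)
    refine ⟨y, ?_, hy⟩
    rw [hU]
    show π y ∈ D'.sub
    rw [← hρ y, show ρ y = uh t from hy]
    exact huD _
  have hcu : 4 ∣ Nat.card (U.map ρh) := by
    have h4 : Nat.card uh.range = 4 := by
      rw [← Nat.card_congr (MonoidHom.ofInjective (f := uh) (fun s t h => Multiplicative.toAdd.injective (hu' h))).toEquiv,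
        Nat.card_congr Multiplicative.toAdd, Nat.card_eq_fintype_card, hK]
    exact h4 ▸ Subgroup.card_dvd_of_le hur
  have hindex : U.index ∣ 15 := by
    have h1 : (U.map ρh).index = U.index := Subgroup.index_map_eq _ hρsurj (hρker ▸ hKU)
    have h2' := (U.map ρh).card_mul_index
    rw [h60, h1] at h2'
    obtain ⟨k, hk⟩ := hcu
    exact ⟨k, by rw [hk] at h2'; linarith [h2']⟩
  have hcop : (Nat.card (π.ker.subgroupOf E)).Coprime U.index := by
    have hZ2 : IsPGroup 2 (π.ker.subgroupOf E) := fun y => ⟨1, Subtype.ext (Subtype.ext (by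
      simpa [sq] using h2 _ (Subgroup.mem_subgroupOf.1 y.2)))⟩
    obtain ⟨n, hn⟩ := IsPGroup.iff_card.1 hZ2
    rw [hn]
    exact (Nat.Coprime.pow_left n (by decide)).coprime_dvd_right hindex
  -- a complement to the kernel in `U`: lifts of a basis
  obtain ⟨-, w, -, hw2, hcases⟩ := field_facts hK
  have hw01 : w ≠ 0 ∧ w ≠ 1 := by
    constructor <;> rintro rfl <;> simp at hw2
  obtain ⟨y1, hy1⟩ := hρsurj (u 1)
  obtain ⟨y2, hy2⟩ := hρsurj (u w)
  have hU' : ∀ y : E, ∀ t, ρh y = u t → y ∈ U := fun y t h => by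
    rw [hU]; show π y ∈ D'.sub
    rw [← hρ y, show ρ y = u t from h]; exact huD t
  have hUel : ∀ y ∈ U, y * y = 1 ∧ ∀ z ∈ U, y * z = z * y := fun y hy => by
    rw [hU] at hy
    obtain ⟨v, hv⟩ := D'.mem_sub.1 hy
    refine ⟨Subtype.ext ((helem D').1 _ v hv), fun z hz => ?_⟩
    rw [hU] at hz
    obtain ⟨v', hv'⟩ := D'.mem_sub.1 hz
    exact Subtype.ext ((helem D').2 _ _ v v' hv hv')
  have m1 := hU' y1 1 hy1
  have m2 := hU' y2 w hy2
  obtain ⟨s1, c1⟩ := hUel y1 m1
  obtain ⟨s2, -⟩ := hUel y2 m2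
  have c12 := c1 y2 m2
  let A : Subgroup E :=
    { carrier := {1, y1, y2, y1 * y2}
      one_mem' := by simp
      inv_mem' := fun {a} ha => by
        simp only [Set.mem_insert_iff, Set.mem_singleton_iff] at ha ⊢
        rcases ha with rfl | rfl | rfl | rfl
        · simp
        · right; left; exact inv_eq_of_mul_eq_one_right s1
        · right; right; left; exact inv_eq_of_mul_eq_one_right s2
        · right; right; right
          rw [mul_inv_rev, inv_eq_of_mul_eq_one_right s1, inv_eq_of_mul_eq_one_right s2, c12]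
      mul_mem' := fun {a b} ha hb => by
        simp only [Set.mem_insert_iff, Set.mem_singleton_iff] at ha hb ⊢
        have e1 : y1 * (y1 * y2) = y2 := by rw [← mul_assoc, s1, one_mul]
        have e2 : y1 * y2 * y2 = y1 := by rw [mul_assoc, s2, mul_one]
        have e3 : y2 * (y1 * y2) = y1 := by rw [c12, ← mul_assoc, s2, one_mul]
        have e4 : y1 * y2 * y1 = y2 := by rw [c12, mul_assoc, s1, mul_one]
        have e5 : y1 * y2 * (y1 * y2) = 1 := by rw [mul_assoc, e3, s1]
        rcases ha with rfl | rfl | rfl | rfl <;> rcases hb with rfl | rfl | rfl | rfl <;>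
          simp [s1, s2, e1, e2, e3, e4, e5, ← c12] }
  have hAU : A ≤ U := fun a ha => by
    rcases ha with rfl | rfl | rfl | rfl
    exacts [one_mem _, m1, m2, mul_mem m1 m2]
  have hρA : ∀ a ∈ A, ρh a = 1 → a = 1 := fun a ha h => by
    rcases ha with rfl | rfl | rfl | rfl
    · rfl
    · rw [hy1] at h
      exact absurd (hu' (h.trans (show (1 : SL₂) = u 0 from (map_one uh).symm))) one_ne_zero
    · rw [hy2] at h
      exact absurd (hu' (h.trans (show (1 : SL₂) = u 0 from (map_one uh).symm))) hw01.1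
    · rw [map_mul, hy1, hy2, ← hu] at h
      have h' := hu' (h.trans (show (1 : SL₂) = u 0 from (map_one uh).symm))
      exact absurd (by linear_combination h' - add_eq_zero' hK 1) hw01.2
  have hKA : π.ker.subgroupOf E ⊔ A = U := by
    refine le_antisymm (sup_le hKU hAU) fun y hy => ?_
    have hy' := hy
    rw [hU] at hy'
    -- the image of `U` has order four
    obtain ⟨t, ht⟩ : ∃ t, ρh y = u t := by
      by_contra hne
      push Not at hne
      have hlt : Set.range u ⊂ (U.map ρh : Set SL₂) := by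
        refine ⟨?_, fun h => ?_⟩
        · rintro _ ⟨t, rfl⟩; exact hur ⟨Multiplicative.ofAdd t, rfl⟩
        · obtain ⟨t, ht⟩ := h ⟨y, hy, rfl⟩; exact hne t ht.symm
      have h5 := Set.ncard_lt_ncard hlt (Set.toFinite _)
      rw [Set.ncard_range_of_injective hu', Nat.card_eq_fintype_card, hK] at h5
      -- an elementary abelian subgroup of a group of order sixty has order at most four
      have hel : IsPGroup 2 (U.map ρh) := by
        rintro ⟨_, z, hz, rfl⟩
        exact ⟨1, Subtype.ext (by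
          show ρh z ^ 2 ^ 1 = 1
          rw [pow_one, sq, ← map_mul, (hUel z hz).1, map_one])⟩
      obtain ⟨n, hn⟩ := IsPGroup.iff_card.1 hel
      have hdvd := Subgroup.card_subgroup_dvd_card (U.map ρh)
      rw [h60, hn] at hdvd
      have hn2 : n ≤ 2 := by
        by_contra hn3
        exact absurd ((pow_dvd_pow 2 (show 3 ≤ n by omega)).trans hdvd) (by decide)
      have h6 : (U.map ρh : Set SL₂).ncard = 2 ^ n := by rw [← hn, ← Nat.card_coe_set_eq]; rfl
      have := Nat.pow_le_pow_right (show 0 < 2 by norm_num) hn2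
      omega
    obtain ⟨a, ha, hat⟩ : ∃ a ∈ A, ρh a = u t := by
      have hu0 : u 0 = 1 := map_one uh
      rcases hcases t with rfl | rfl | rfl | rfl
      · exact ⟨1, one_mem _, by rw [map_one, hu0]⟩
      · exact ⟨y1, Or.inr (Or.inl rfl), hy1⟩
      · exact ⟨y2, Or.inr (Or.inr (Or.inl rfl)), hy2⟩
      · exact ⟨y1 * y2, Or.inr (Or.inr (Or.inr rfl)), by rw [map_mul, hy1, hy2, ← hu, hw2, add_comm]⟩
    have : y * a⁻¹ ∈ π.ker.subgroupOf E := by
      rw [← hρker, MonoidHom.mem_ker, map_mul, map_inv, ht, hat, mul_inv_cancel]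
    rw [show y = y * a⁻¹ * a by group]
    exact mul_mem (Subgroup.mem_sup_left this) (Subgroup.mem_sup_right ha)
  obtain ⟨C0, hC0⟩ := Basics.gaschutz_complement (π.ker.subgroupOf E) U hKU hcop A hAU
    (Subgroup.eq_bot_iff_forall _ |>.2 fun a ha => hρA a ha.1 (MonoidHom.mem_ker.1 (hρker ▸ ha.2))) hKA
  have hC0bij : Function.Bijective (ρh.comp C0.subtype) := by
    refine ⟨(injective_iff_map_eq_one _).2 fun c h => ?_, fun a => ?_⟩
    · have hmem' : (c : E) ∈ π.ker.subgroupOf E ⊓ C0 := ⟨hρker ▸ MonoidHom.mem_ker.2 h, c.2⟩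
      rw [hC0.disjoint.eq_bot, Subgroup.mem_bot] at hmem'
      exact Subtype.ext hmem'
    · obtain ⟨y, rfl⟩ := hρsurj a
      obtain ⟨⟨k, c⟩, hkc⟩ := hC0.2 y
      refine ⟨c, ?_⟩
      show ρh c = ρh y
      rw [← hkc]
      show ρh c = ρh ((k : E) * (c : E))
      rw [map_mul, show ρh (k : E) = 1 from MonoidHom.mem_ker.1 (hρker.symm.le k.2), one_mul]
  refine ⟨C0.map E.subtype, ?_, ?_, ?_, ⟨(C0.equivMapOfInjective _ E.subtype_injective).symm.trans
    (MulEquiv.ofBijective _ hC0bij)⟩⟩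
  · rintro _ ⟨c, -, rfl⟩
    rw [Subgroup.mem_normalizer_iff]
    intro h
    simp only [Subgroup.coe_subtype]
    have key : ∀ (d : E) (g : X), g ∈ H → (d : X) * g * (d : X)⁻¹ ∈ H := fun d g hg => by
      rw [hH] at hg ⊢
      rw [Subgroup.mem_comap, map_mul, map_mul, map_inv, ← hρ d]
      exact D.σ_normalizes _ hg
    exact ⟨key c h, fun hm => by
      have := key c⁻¹ _ hm
      simpa [mul_assoc] using this⟩
  · rw [Subgroup.eq_bot_iff_forall]
    rintro x ⟨⟨c, hc', rfl⟩, hx⟩
    obtain ⟨v, hv⟩ := (hmem _).1 hx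
    have h1 : ρh c = 1 := D.disj _ v (by rw [show D.σ (ρh c) = π c from hρ c]; exact hv)
    have := hC0bij.1 (a₁ := ⟨c, hc'⟩) (a₂ := 1) (h1.trans (map_one _).symm)
    rw [Subtype.ext_iff] at this
    simp only [OneMemClass.coe_one] at this
    simp [this]
  · refine le_antisymm (sup_le Subgroup.le_normalizer ?_) fun g hg => ?_
    · rintro _ ⟨c, -, rfl⟩
      rw [Subgroup.mem_normalizer_iff]
      intro h
      simp only [Subgroup.coe_subtype]
      have key : ∀ (d : E) (g : X), g ∈ H → (d : X) * g * (d : X)⁻¹ ∈ H := fun d g hg => by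
        rw [hH] at hg ⊢
        rw [Subgroup.mem_comap, map_mul, map_mul, map_inv, ← hρ d]
        exact D.σ_normalizes _ hg
      exact ⟨key c h, fun hm => by
        have := key c⁻¹ _ hm
        simpa [mul_assoc] using this⟩
    · obtain ⟨y, hy⟩ := hπ (D.f D.e)
      have hge := (Subgroup.mem_normalizer_iff.1 hg y).1 ((hmem y).2 ⟨_, hy⟩)
      obtain ⟨v, hv⟩ := (hmem _).1 hge
      rw [map_mul, map_mul, map_inv, mul_inv_eq_iff_eq_mul, hy] at hv
      obtain ⟨a, b, hab⟩ := D.norm _ _ hv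
      obtain ⟨c, hc'⟩ := hC0bij.2 a
      have hh : ((c : E) : X)⁻¹ * g ∈ H := (hmem _).2 ⟨b, by
        rw [map_mul, map_inv, hab, ← hρ (c : E), show ρ (c : E) = a from hc', inv_mul_cancel_left]⟩
      rw [show g = ((c : E) : X) * (((c : E) : X)⁻¹ * g) by group]
      exact mul_mem (Subgroup.mem_sup_right ⟨c, c.2, rfl⟩) (Subgroup.mem_sup_left hh)

end Data

end Cfsg.Agent.CoverL34
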